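import Mathlib

/-!
Generated permutation groups of small degree with image lists: lower bounds on orders from
transversals, and isomorphisms of two groups through equivalent actions on finitely many objects.
-/

set_option autoImplicit false

namespace CfsgLib.Spor.HSUnitary

variable {n : ℕ}

/-- the composite of two image lists -/
def compL (n : ℕ) (a b : List ℕ) : List ℕ := (List.range n).map fun i => a.getD (b.getD i 0) 0

/-- the list of images of a permutation -/
def RepL (σ : Equiv.Perm (Fin n)) (a : List ℕ) : Prop := ∀ i : Fin n, a.getD i 0 = (σ i : ℕ)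

theorem RepL.mul {σ τ : Equiv.Perm (Fin n)} {a b : List ℕ} (h : RepL σ a) (h' : RepL τ b) :
    RepL (σ * τ) (compL n a b) := fun i => by
  rw [compL, List.getD_eq_getElem _ _ (by simp), List.getElem_map, List.getElem_range, h' i, h (τ i)]
  rfl

theorem RepL.one : RepL (1 : Equiv.Perm (Fin n)) (List.range n) := fun i => by
  rw [List.getD_eq_getElem _ _ (by simp), List.getElem_range]
  rfl

/-- each row is the product of two earlier entries -/
def slpL (n : ℕ) : List (List ℕ × ℕ × ℕ) → List (List ℕ) → Bool
  | [], _ => true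
  | (a, i, j) :: r, acc =>
    decide (a = compL n (acc.getD i (List.range n)) (acc.getD j (List.range n))) && slpL n r (a :: acc)

theorem mem_of_slpL {H : Subgroup (Equiv.Perm (Fin n))} :
    ∀ (r : List (List ℕ × ℕ × ℕ)) (acc : List (List ℕ)), slpL n r acc = true →
      (∀ a ∈ acc, ∃ σ ∈ H, RepL σ a) → ∀ e ∈ r, ∃ σ ∈ H, RepL σ e.1 := by
  intro r
  induction r with
  | nil => simp
  | cons x r ih =>
    obtain ⟨a, i, j⟩ := x
    intro acc h hacc
    simp only [slpL, Bool.and_eq_true, decide_eq_true_eq] at h
    have hget : ∀ k, ∃ σ ∈ H, RepL σ (acc.getD k (List.range n)) := fun k => by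
      by_cases hk : k < acc.length
      · rw [List.getD_eq_getElem _ _ hk]; exact hacc _ (List.getElem_mem hk)
      · rw [List.getD_eq_default _ _ (le_of_not_gt hk)]; exact ⟨1, H.one_mem, RepL.one⟩
    have ha : ∃ σ ∈ H, RepL σ a := by
      obtain ⟨σ, hσ, hσa⟩ := hget i
      obtain ⟨τ, hτ, hτa⟩ := hget j
      exact ⟨σ * τ, H.mul_mem hσ hτ, h.1 ▸ hσa.mul hτa⟩
    intro e he
    rcases List.mem_cons.1 he with rfl | he
    · exact ha
    · refine ih (a :: acc) h.2 (fun b hb => ?_) e he
      rcases List.mem_cons.1 hb with rfl | hb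
      · exact ha
      · exact hacc b hb

/-- transversals of a chain of point stabilisers -/
def chainL (n : ℕ) : List (ℕ × List (List ℕ)) → Bool
  | [] => true
  | (b, T) :: r => Nat.blt b n && decide (T.map fun t => t.getD b 0).Nodup &&
      (r.all fun l => l.2.all fun t => Nat.beq (t.getD b 0) b) && chainL n r

theorem le_card_of_chainL :
    ∀ (L : List (ℕ × List (List ℕ))), chainL n L = true →
      ∀ (G : Subgroup (Equiv.Perm (Fin n))), (∀ l ∈ L, ∀ t ∈ l.2, ∃ σ ∈ G, RepL σ t) →
        (L.map fun l => l.2.length).prod ≤ Nat.card G := by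
  intro L
  induction L with
  | nil => intro _ G _; exact Nat.card_pos (α := G)
  | cons l r ih =>
    obtain ⟨b, T⟩ := l
    intro h G hG
    simp only [chainL, Bool.and_eq_true, Nat.blt_eq, decide_eq_true_eq, List.all_eq_true,
      Nat.beq_eq] at h
    obtain ⟨⟨⟨hb, hnd⟩, hfix⟩, hr⟩ := h
    let p : Fin n := ⟨b, hb⟩
    have hsub : (r.map fun l => l.2.length).prod ≤ Nat.card (MulAction.stabilizer G p) := by
      refine (ih hr ((MulAction.stabilizer G p).map G.subtype) fun l hl t ht => ?_).trans
        (le_of_eq (Nat.card_congr (Subgroup.equivMapOfInjective _ _ G.subtype_injective).symm.toEquiv))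
      obtain ⟨σ, hσ, hσt⟩ := hG l (List.mem_cons_of_mem _ hl) t ht
      exact ⟨σ, ⟨⟨σ, hσ⟩, MulAction.mem_stabilizer_iff.2
        (Fin.ext ((hσt p).symm.trans (hfix l hl t ht))), rfl⟩, hσt⟩
    have horb : T.length ≤ (MulAction.orbit G p).ncard := by
      have hsub' : ((T.map fun t => t.getD b 0).toFinset : Set ℕ) ⊆
          (fun i : Fin n => (i : ℕ)) '' MulAction.orbit G p := by
        intro q hq
        rw [List.coe_toFinset] at hq
        obtain ⟨t, ht, rfl⟩ := List.mem_map.1 hq
        obtain ⟨σ, hσ, hσt⟩ := hG _ List.mem_cons_self t ht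
        exact ⟨σ p, ⟨⟨σ, hσ⟩, rfl⟩, (hσt p).symm⟩
      have := Set.ncard_le_ncard hsub' (Set.toFinite _)
      rw [Set.ncard_coe_finset, List.toFinset_card_of_nodup hnd, List.length_map,
        Set.ncard_image_of_injective _ Fin.val_injective] at this
      exact this
    rw [List.map_cons, List.prod_cons, ← Subgroup.card_mul_index (MulAction.stabilizer G p),
      MulAction.index_stabilizer, mul_comm]
    exact Nat.mul_le_mul hsub horb

section Equivar

variable {G X V M : Type*} [Group G] [MulAction G X] [Group M]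

/-- the elements acting on the objects as elements of `M` act on the labels -/
def equivarSub (obj : V → X) (ρ : M →* Equiv.Perm V) : Subgroup G where
  carrier := {h | ∃ m, ∀ v, h • obj v = obj (ρ m v)}
  one_mem' := ⟨1, fun v => by simp⟩
  mul_mem' := by
    rintro h k ⟨m, hm⟩ ⟨n, hn⟩
    exact ⟨m * n, fun v => by rw [mul_smul, hn, hm, map_mul, Equiv.Perm.mul_apply]⟩
  inv_mem' := by
    rintro h ⟨m, hm⟩
    refine ⟨m⁻¹, fun v => ?_⟩
    rw [inv_smul_eq_iff, hm, map_inv]
    simp

variable {obj : V → X} {ρ : M →* Equiv.Perm V}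

theorem equivar_unique (hobj : Function.Injective obj) (hρ : Function.Injective ρ) {h : G}
    {m n : M} (hm : ∀ v, h • obj v = obj (ρ m v)) (hn : ∀ v, h • obj v = obj (ρ n v)) : m = n :=
  hρ (Equiv.ext fun v => hobj ((hm v).symm.trans (hn v)))

/-- the homomorphism to the group of labels -/
noncomputable def equivarHom (hobj : Function.Injective obj) (hρ : Function.Injective ρ)
    (H : Subgroup G) (hH : H ≤ equivarSub obj ρ) : H →* M where
  toFun h := Classical.choose (hH h.2)
  map_one' := equivar_unique hobj hρ (Classical.choose_spec (hH (1 : H).2)) fun v => by simp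
  map_mul' h k := equivar_unique hobj hρ (Classical.choose_spec (hH (h * k).2)) fun v => by
    rw [Subgroup.coe_mul, mul_smul, Classical.choose_spec (hH k.2), Classical.choose_spec (hH h.2),
      map_mul, Equiv.Perm.mul_apply]

theorem equivarHom_spec (hobj : Function.Injective obj) (hρ : Function.Injective ρ)
    (H : Subgroup G) (hH : H ≤ equivarSub obj ρ) (h : H) (v : V) :
    (h : G) • obj v = obj (ρ (equivarHom hobj hρ H hH h) v) := Classical.choose_spec (hH h.2) v

theorem equivarHom_eq (hobj : Function.Injective obj) (hρ : Function.Injective ρ)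
    (H : Subgroup G) (hH : H ≤ equivarSub obj ρ) {h : H} {m : M}
    (hm : ∀ v, (h : G) • obj v = obj (ρ m v)) : equivarHom hobj hρ H hH h = m :=
  equivar_unique hobj hρ (equivarHom_spec hobj hρ H hH h) hm

end Equivar

/-- A group of order at most that of the closure of two permutations, having two elements which act
on objects as these permutations, is isomorphic to the closure. -/
theorem equiv_closure_of_action {G X : Type*} [Group G] [Finite G] [MulAction G X] (obj : Fin n → X)
    (hobj : Function.Injective obj) (g₁ g₂ : G) (p₁ p₂ : Equiv.Perm (Fin n))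
    (h₁ : ∀ i, g₁ • obj i = obj (p₁ i)) (h₂ : ∀ i, g₂ • obj i = obj (p₂ i))
    (hN : Nat.card G ≤ Nat.card (Subgroup.closure {p₁, p₂})) :
    Nonempty (G ≃* Subgroup.closure ({p₁, p₂} : Set (Equiv.Perm (Fin n)))) := by
  classical
  let ρ : Equiv.Perm (Fin n) →* Equiv.Perm (Fin n) := MonoidHom.id _
  have hρ : Function.Injective ρ := fun a b h => h
  let H : Subgroup G := Subgroup.closure {g₁, g₂}
  have hH : H ≤ equivarSub obj ρ := by
    rw [Subgroup.closure_le]
    rintro g (rfl | rfl)
    exacts [⟨p₁, h₁⟩, ⟨p₂, h₂⟩]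
  let ψ := equivarHom hobj hρ H hH
  set C := Subgroup.closure ({p₁, p₂} : Set (Equiv.Perm (Fin n)))
  have hCle : C ≤ ψ.range := by
    rw [Subgroup.closure_le]
    rintro p (rfl | rfl)
    · exact ⟨⟨g₁, Subgroup.subset_closure (by simp)⟩, equivarHom_eq hobj hρ H hH h₁⟩
    · exact ⟨⟨g₂, Subgroup.subset_closure (by simp)⟩, equivarHom_eq hobj hρ H hH h₂⟩
  have e1 := Subgroup.card_le_of_le (K := ψ.range) hCle
  have e2 := Nat.card_le_card_of_surjective ψ.rangeRestrict ψ.rangeRestrict_surjective
  have e3 := Subgroup.card_le_card_group H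
  have hC : C = ψ.range := Subgroup.eq_of_le_of_card_ge hCle (by omega)
  have hHtop : H = ⊤ := Subgroup.eq_top_of_card_eq H (by omega)
  have hbij : Function.Bijective ψ.rangeRestrict :=
    Function.Surjective.bijective_of_nat_card_le ψ.rangeRestrict_surjective (by omega)
  exact ⟨Subgroup.topEquiv.symm.trans ((MulEquiv.subgroupCongr hHtop.symm).trans
    ((MulEquiv.ofBijective _ hbij).trans (MulEquiv.subgroupCongr hC.symm)))⟩

end CfsgLib.Spor.HSUnitary
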