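import Cfsg.Agent.Lib.Spor.HSUnitary.Unitary
import Cfsg.Agent.Lib.Spor.HSConfig
import Cfsg.Agent.Lib.Spor.ConwaySimple

/-!
The 352 short vectors with inner products `16`, `-24` with a pair of norm 48 vectors, and their
stabilisers `PSU₃(5)`.
-/

set_option autoImplicit false
set_option maxRecDepth 100000

namespace CfsgLib.Spor.HSUnitary

open Cfsg
open CfsgLib.Spor CfsgLib.Spor.Config
open CfsgLib.Spor.HSConfig (bigV bigW pairStab gens_pair pairStab_fix mkV encL encV_eq_encL encV_inj)

theorem ncard_352 : (cfgSet [(bigV, 16), (bigW, -24)]).ncard = 352 := by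
  rw [cfgSet_eq_censusSet (C := [(HSConfig.cV, 16), (HSConfig.cW, -24)]) (by decide +kernel),
    Census.ncard_censusSet]
  rw [Census.count_of_parts (a := 0) (B := [40, 36, 31, 33, 29, 7, 0, 0])
    (D := [4, 12, 12, 28, 12, 28, 28, 52]) (by decide +kernel) ?_ ?_]
  · rfl
  · refine ⟨?_, ?_, ?_, ?_, ?_, ?_, ?_, ?_, ?_⟩ <;> (try unfold Census.Parts) <;>
      decide +kernel
  · refine ⟨?_, ?_, ?_, ?_, ?_, ?_, ?_, ?_, ?_⟩ <;> (try unfold Census.Parts) <;>
      decide +kernel

/-- a point of the 352 -/
def p352 : leechLattice := mkV start352 (by decide +kernel)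

theorem p352_mem : p352 ∈ cfgSet [(bigV, 16), (bigW, -24)] :=
  mem_cfgSet_two.2 ⟨by decide +kernel, by decide +kernel, by decide +kernel⟩

theorem orbit_352 : MulAction.orbit pairStab p352 = cfgSet [(bigV, 16), (bigW, -24)] :=
  orbit_eq_cfgSet (pairStab_fix 16 (-24)) p352_mem ncard_352
    (gens_pair.le_orbit (start := start352) (w := walk352) (by decide +kernel) (by decide +kernel)
      (by decide +kernel))

/-- the stabiliser of the pair and the point -/
abbrev stab352 : Subgroup Co0 := pairStab ⊓ MulAction.stabilizer Co0 p352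

theorem card_stab352 : Nat.card stab352 = 126000 := by
  have h1 := Subgroup.card_mul_index (MulAction.stabilizer pairStab p352)
  rw [MulAction.index_stabilizer, orbit_352, ncard_352, ConwaySimple.natCard_hsStd] at h1
  have h2 : Nat.card (MulAction.stabilizer pairStab p352) = Nat.card stab352 :=
    Nat.card_congr ⟨fun g => ⟨g.1.1, g.1.2, g.2⟩, fun g => ⟨⟨g.1, g.2.1⟩, g.2.2⟩,
      fun _ => rfl, fun _ => rfl⟩
  omega

theorem fifty_check : (fiftyList.all fun l => decide (l.length = 24) && inLeechB l &&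
    decide (HSConfig.dotL l l = 32)) = true := by decide +kernel

theorem fifty_length : fiftyList.length = 50 := by decide +kernel

theorem fifty_nodup : fiftyList.Nodup := by decide +kernel

theorem fifty_prog : ((List.range 50).all fun i =>
    Nat.beq (runN progA (encL (fiftyList.getD i []))) (encL (fiftyList.getD (permA.getD i 0) [])) &&
    Nat.beq (runN progB (encL (fiftyList.getD i []))) (encL (fiftyList.getD (permB.getD i 0) []))) =
      true := by decide +kernel

theorem stab352_equiv {F : Type} [Field F] [Fintype F] (hF : Fintype.card F = 25) :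
    Nonempty (stab352 ≃* Cfsg.PSU 3 F 5) := by
  have hspec : ∀ i : Fin 50, ∃ v : leechLattice, lOf (v : GolayPt → ℤ) = fiftyList.getD i [] ∧
      sqNorm (v : GolayPt → ℤ) = 32 := by
    intro i
    have hi : (i : ℕ) < fiftyList.length := by rw [fifty_length]; exact i.2
    rw [List.getD_eq_getElem _ _ hi]
    have h := List.all_eq_true.1 fifty_check _ (List.getElem_mem hi)
    simp only [Bool.and_eq_true, decide_eq_true_eq] at h
    obtain ⟨⟨h0, h1⟩, h2⟩ := h
    have e := lOf_vOf h0
    refine ⟨⟨vOf fiftyList[(i : ℕ)], mem_leech_of_inLeechB (by rw [e]; exact h1)⟩, e, ?_⟩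
    rw [← dot_self, HSConfig.dotInt_eq_dotL, e, h2]
  choose obj hobjl hobjn using hspec
  have hobj : Function.Injective obj := by
    intro i j h
    have e : fiftyList.getD i [] = fiftyList.getD j [] := by rw [← hobjl, ← hobjl, h]
    rw [List.getD_eq_getElem _ _ (by rw [fifty_length]; exact i.2),
      List.getD_eq_getElem _ _ (by rw [fifty_length]; exact j.2),
      fifty_nodup.getElem_inj_iff] at e
    exact Fin.ext e
  have hgens : Gens stab352 [progA, progB] :=
    Gens.of_fixesB (cfg := [lOf (bigV : GolayPt → ℤ), lOf (bigW : GolayPt → ℤ),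
      lOf (p352 : GolayPt → ℤ)]) (by decide +kernel)
      fun _ h => ⟨⟨MulAction.mem_stabilizer_iff.2 (h bigV (by simp)),
        MulAction.mem_stabilizer_iff.2 (h bigW (by simp))⟩,
        MulAction.mem_stabilizer_iff.2 (h p352 (by simp))⟩
  obtain ⟨hokA, gA, hgA, hA⟩ := hgens.spec progA (by simp)
  obtain ⟨hokB, gB, hgB, hB⟩ := hgens.spec progB (by simp)
  have key : ∀ (g : Co0) (hg : g ∈ stab352) (P : List Stp) (p : Fin 50 → Fin 50),
      P.all Stp.ok = true → ActsAs g (runP P) →
      (∀ i : Fin 50, runN P (encL (fiftyList.getD i [])) = encL (fiftyList.getD (p i) [])) →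
      ∀ i, (⟨g, hg⟩ : stab352) • obj i = obj (p i) := by
    intro g hg P p hok hact hp i
    show g • obj i = obj (p i)
    have hn : sqNorm ((g • obj i : leechLattice) : GolayPt → ℤ) = 32 :=
      (coe_smul_sqNorm g _).trans (hobjn i)
    refine Subtype.ext (encV_inj (small_of_sqNorm (le_of_eq_of_le hn (by norm_num)))
      (small_of_sqNorm (le_of_eq_of_le (hobjn (p i)) (by norm_num))) ?_)
    rw [← runN_spec hok hact (le_of_eq_of_le (hobjn i) (by norm_num)), encV_eq_encL, encV_eq_encL,
      hobjl, hobjl]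
    exact hp i
  haveI : Finite stab352 := Nat.finite_of_card_ne_zero (by rw [card_stab352]; norm_num)
  obtain ⟨e⟩ := equiv_closure_of_action (G := stab352) obj hobj ⟨gA, hgA⟩ ⟨gB, hgB⟩ pA pB
    (key gA hgA progA pA hokA hA fun i => by
      rw [pA_val]
      have := List.all_eq_true.1 fifty_prog i (List.mem_range.2 i.2)
      simp only [Bool.and_eq_true, Nat.beq_eq] at this
      exact this.1)
    (key gB hgB progB pB hokB hB fun i => by
      rw [pB_val]
      have := List.all_eq_true.1 fifty_prog i (List.mem_range.2 i.2)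
      simp only [Bool.and_eq_true, Nat.beq_eq] at this
      exact this.2)
    (by rw [card_stab352]; exact le_card_model)
  obtain ⟨e'⟩ := psu_equiv_model hF
  exact ⟨e.trans e'.symm⟩

theorem exists_std_352 {v w x : leechLattice} (hv : sqNorm (v : GolayPt → ℤ) = 48)
    (hw : sqNorm (w : GolayPt → ℤ) = 48)
    (hvw : dotInt (v : GolayPt → ℤ) (w : GolayPt → ℤ) = -32)
    (hx : x ∈ cfgSet [(v, 16), (w, -24)]) :
    ∃ g : Co0, g • v = bigV ∧ g • w = bigW ∧ g • x = p352 := by
  obtain ⟨g, h1, h2⟩ := HSConfig.exists_std_pair hv hw hvw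
  have h3 := smul_mem_cfgSet (g := g) hx
  simp only [List.map_cons, List.map_nil, h1, h2, ← orbit_352] at h3
  obtain ⟨⟨k, hk1, hk2⟩, hk⟩ := h3
  change k • p352 = g • x at hk
  refine ⟨k⁻¹ * g, ?_, ?_, ?_⟩ <;> rw [mul_smul, inv_smul_eq_iff]
  · rw [h1]; exact hk1.symm
  · rw [h2]; exact hk2.symm
  · exact hk.symm

end CfsgLib.Spor.HSUnitary
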