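import Cfsg.Agent.Lib.Spor.HSUnitary.Data

/-!
The two permutations of degree 50 generate a group of order at least 126000.
-/

set_option autoImplicit false
set_option maxRecDepth 100000

namespace CfsgLib.Spor.HSUnitary

/-- the first permutation -/
noncomputable def pA : Equiv.Perm (Fin 50) :=
  Equiv.ofBijective (fun i => Fin.ofNat 50 (permA.getD i 0)) (by decide +kernel)

/-- the second permutation -/
noncomputable def pB : Equiv.Perm (Fin 50) :=
  Equiv.ofBijective (fun i => Fin.ofNat 50 (permB.getD i 0)) (by decide +kernel)

theorem pA_val (i : Fin 50) : (pA i : ℕ) = permA.getD i 0 :=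
  Nat.mod_eq_of_lt (show permA.getD i 0 < 50 by revert i; decide +kernel)

theorem pB_val (i : Fin 50) : (pB i : ℕ) = permB.getD i 0 :=
  Nat.mod_eq_of_lt (show permB.getD i 0 < 50 by revert i; decide +kernel)

/-- the group generated by the two permutations -/
abbrev model : Subgroup (Equiv.Perm (Fin 50)) := Subgroup.closure {pA, pB}

theorem le_card_model : 126000 ≤ Nat.card model := by
  have hr := mem_of_slpL (H := model) permRows [permA, permB] (by decide +kernel) fun a ha => by
    simp only [List.mem_cons, List.not_mem_nil, or_false] at ha
    rcases ha with rfl | rfl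
    · exact ⟨pA, Subgroup.subset_closure (by simp), fun i => (pA_val i).symm⟩
    · exact ⟨pB, Subgroup.subset_closure (by simp), fun i => (pB_val i).symm⟩
  have hsub : (permLev.all fun l => l.2.all fun t =>
      decide (t = List.range 50) || decide (t = permA) || decide (t = permB) ||
        permRows.any fun e => decide (t = e.1)) = true := by decide +kernel
  refine le_trans (le_of_eq ?_) (le_card_of_chainL permLev (by decide +kernel) model fun l hl t ht => ?_)
  · decide +kernel
  have h := List.all_eq_true.1 (List.all_eq_true.1 hsub l hl) t ht
  simp only [Bool.or_eq_true, decide_eq_true_eq, List.any_eq_true] at h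
  rcases h with ((rfl | rfl) | rfl) | ⟨e, he, rfl⟩
  · exact ⟨1, Subgroup.one_mem _, RepL.one⟩
  · exact ⟨pA, Subgroup.subset_closure (by simp), fun i => (pA_val i).symm⟩
  · exact ⟨pB, Subgroup.subset_closure (by simp), fun i => (pB_val i).symm⟩
  · exact hr e he

end CfsgLib.Spor.HSUnitary
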