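import Cfsg.Agent.Lib.Spor.HSUnitary.Perm
import Cfsg.Agent.Lib.KnownA.PSU35.Main

/-!
`PSU₃(5)` on 50 sets of involutions.
-/

set_option autoImplicit false
set_option maxRecDepth 100000

namespace CfsgLib.Spor.HSUnitary

open CfsgLib.KnownA.PSU35
open scoped Pointwise

/-- the matrix of an involution -/
def invM (k : ℕ) : Matrix (Fin 3) (Fin 3) K25 := ofCode (invCodes.getD k 0)

theorem isSU_gens : IsSU (ofCode matA) ∧ IsSU (ofCode matB) := by decide +kernel

theorem invM_isSU : ∀ k : Fin 525, IsSU (invM k) := by decide +kernel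

theorem conj_tab : ∀ k : Fin 525, ofCode matA * invM k = invM (conjA.getD k 0) * ofCode matA ∧
    ofCode matB * invM k = invM (conjB.getD k 0) * ofCode matB := by decide +kernel

theorem conj_lt : ∀ k : Fin 525, conjA.getD k 0 < 525 ∧ conjB.getD k 0 < 525 := by decide +kernel

theorem invM_code : ((List.range 525).all fun k =>
    Nat.beq (code (invM k)) (invCodes.getD k 0) &&
    !(invCodes.any (Nat.beq (code (omega • invM k)))) &&
    !(invCodes.any (Nat.beq (code ((omega * omega) • invM k))))) = true := by decide +kernel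

theorem invCodes_nodup : invCodes.Nodup := by decide +kernel

theorem invCodes_length : invCodes.length = 525 := by decide +kernel

theorem fixLists_lt : (fixLists.all fun l => l.all fun k => Nat.blt k 525) = true := by
  decide +kernel

theorem fixLists_length : fixLists.length = 50 := by decide +kernel

/-- inclusion of lists of numbers -/
def subB (l m : List ℕ) : Bool := l.all fun k => m.any (Nat.beq k)

theorem subB_iff {l m : List ℕ} : subB l m = true ↔ ∀ k ∈ l, k ∈ m := by
  simp [subB, List.any_eq_true, Nat.beq_eq]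

theorem fixLists_sep : ((List.range 50).all fun i => (List.range 50).all fun j =>
    Nat.beq i j || !subB (fixLists.getD i []) (fixLists.getD j [])) = true := by decide +kernel

theorem conjA_sets : ((List.range 50).all fun i =>
    subB ((fixLists.getD i []).map fun k => conjA.getD k 0) (fixLists.getD (permA.getD i 0) []) &&
    subB (fixLists.getD (permA.getD i 0) []) ((fixLists.getD i []).map fun k => conjA.getD k 0)) = true := by
  decide +kernel

theorem conjB_sets : ((List.range 50).all fun i =>
    subB ((fixLists.getD i []).map fun k => conjB.getD k 0) (fixLists.getD (permB.getD i 0) []) &&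
    subB (fixLists.getD (permB.getD i 0) []) ((fixLists.getD i []).map fun k => conjB.getD k 0)) = true := by
  decide +kernel

theorem psu_equiv_model {F : Type} [Field F] [Fintype F] (hF : Fintype.card F = 25) :
    Nonempty (Cfsg.PSU 3 F 5 ≃* model) := by
  classical
  haveI := charP_five hF
  obtain ⟨φ⟩ := exists_ringEquiv hF
  obtain ⟨sA, hsA⟩ := exists_toK φ isSU_gens.1
  obtain ⟨sB, hsB⟩ := exists_toK φ isSU_gens.2
  have hex : ∀ k : Fin 525, ∃ g : Cfsg.SU 3 F 5, toK φ g = invM k :=
    fun k => exists_toK φ (invM_isSU k)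
  choose s hs using hex
  let π := QuotientGroup.mk' (Subgroup.center (Cfsg.SU 3 F 5))
  have hπinj : ∀ k l : Fin 525, π (s k) = π (s l) → k = l := by
    intro k l h
    have hc : (s k)⁻¹ * s l ∈ Subgroup.center (Cfsg.SU 3 F 5) := QuotientGroup.eq.1 h
    have hl : invM l = invM k * toK φ ((s k)⁻¹ * s l) := by
      rw [← hs k, ← hs l, ← map_mul, mul_inv_cancel_left]
    have hcl : code (invM l) = invCodes.getD l 0 := by
      have := List.all_eq_true.1 invM_code l (List.mem_range.2 l.2)
      simp only [Bool.and_eq_true, Nat.beq_eq] at this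
      exact this.1.1
    have hck := List.all_eq_true.1 invM_code k (List.mem_range.2 k.2)
    simp only [Bool.and_eq_true, Nat.beq_eq, Bool.not_eq_true', List.any_eq_false] at hck
    obtain ⟨⟨hck1, hck2⟩, hck3⟩ := hck
    have hlm : (invCodes.getD l 0) ∈ invCodes := by
      rw [List.getD_eq_getElem _ _ (by rw [invCodes_length]; exact l.2)]
      exact List.getElem_mem _
    rcases toK_center hF φ hc with e | e | e <;> rw [e] at hl
    · rw [mul_one] at hl
      rw [hl, hck1] at hcl
      rw [List.getD_eq_getElem _ _ (by rw [invCodes_length]; exact k.2),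
        List.getD_eq_getElem _ _ (by rw [invCodes_length]; exact l.2),
        invCodes_nodup.getElem_inj_iff] at hcl
      exact Fin.ext hcl
    · rw [Matrix.mul_smul, mul_one] at hl
      rw [hl] at hcl
      exact absurd hcl (by simpa [Nat.beq_eq, eq_comm] using hck2 _ hlm)
    · rw [Matrix.mul_smul, mul_one] at hl
      rw [hl] at hcl
      exact absurd hcl (by simpa [Nat.beq_eq, eq_comm] using hck3 _ hlm)
  let obj : Fin 50 → Set (Cfsg.PSU 3 F 5) :=
    fun i => (fun k => π (s k)) '' {k : Fin 525 | (k : ℕ) ∈ fixLists.getD i []}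
  have hlt : ∀ i : Fin 50, ∀ k ∈ fixLists.getD i [], k < 525 := fun i k hk => by
    have hi : (i : ℕ) < fixLists.length := by rw [fixLists_length]; exact i.2
    rw [List.getD_eq_getElem _ _ hi] at hk
    exact Nat.le_of_ble_eq_true
      (List.all_eq_true.1 (List.all_eq_true.1 fixLists_lt _ (List.getElem_mem hi)) k hk)
  have hobj : Function.Injective obj := by
    intro i j h
    have h1 := List.all_eq_true.1 (List.all_eq_true.1 fixLists_sep i (List.mem_range.2 i.2)) j
      (List.mem_range.2 j.2)
    simp only [Bool.or_eq_true, Nat.beq_eq, Bool.not_eq_true'] at h1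
    refine Fin.ext (h1.resolve_right fun hn => ?_)
    rw [← Bool.not_eq_true, subB_iff] at hn
    refine hn fun k hk => ?_
    have : π (s ⟨k, hlt i k hk⟩) ∈ obj j := h ▸ ⟨⟨k, hlt i k hk⟩, hk, rfl⟩
    obtain ⟨l, hl, e⟩ := this
    obtain rfl := hπinj _ _ e
    exact hl
  have key : ∀ (g : Cfsg.SU 3 F 5) (ct : List ℕ) (p : Fin 50 → Fin 50),
      (∀ k : Fin 525, ∃ h : ct.getD k 0 < 525, toK φ g * invM k = invM (ct.getD k 0) * toK φ g) →
      (∀ i : Fin 50, subB ((fixLists.getD i []).map fun k => ct.getD k 0) (fixLists.getD (p i) []) = true ∧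
        subB (fixLists.getD (p i) []) ((fixLists.getD i []).map fun k => ct.getD k 0) = true) →
      ∀ i, ConjAct.toConjAct (π g) • obj i = obj (p i) := by
    intro g ct p hct hset i
    have hc : ∀ k : Fin 525, ConjAct.toConjAct (π g) • π (s k) = π (s ⟨_, (hct k).1⟩) := by
      intro k
      obtain ⟨h, e⟩ := hct k
      rw [ConjAct.toConjAct_smul, ← map_mul, ← map_inv, ← map_mul]
      congr 1
      rw [mul_inv_eq_iff_eq_mul]
      refine toK_injective φ ?_
      rw [map_mul, map_mul, hs, hs]
      exact e
    obtain ⟨h1, h2⟩ := hset i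
    rw [subB_iff] at h1 h2
    ext y
    constructor
    · rintro ⟨_, ⟨k, hk, rfl⟩, rfl⟩
      exact ⟨⟨_, (hct k).1⟩, h1 _ (List.mem_map.2 ⟨k, hk, rfl⟩), (hc k).symm⟩
    · rintro ⟨l, hl, rfl⟩
      obtain ⟨k, hk, he⟩ := List.mem_map.1 (h2 _ hl)
      refine ⟨_, ⟨⟨k, hlt i k hk⟩, hk, rfl⟩, (hc _).trans ?_⟩
      exact congrArg (fun z => π (s z)) (Fin.ext he)
  haveI : Finite (ConjAct (Cfsg.PSU 3 F 5)) := Finite.of_equiv _ ConjAct.toConjAct.toEquiv
  obtain ⟨e⟩ := equiv_closure_of_action (G := ConjAct (Cfsg.PSU 3 F 5)) obj hobj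
    (ConjAct.toConjAct (π sA)) (ConjAct.toConjAct (π sB)) pA pB
    (key sA conjA pA (fun k => ⟨(conj_lt k).1, hsA ▸ (conj_tab k).1⟩) fun i => by
      rw [pA_val]
      simpa only [Bool.and_eq_true] using List.all_eq_true.1 conjA_sets i (List.mem_range.2 i.2))
    (key sB conjB pB (fun k => ⟨(conj_lt k).2, hsB ▸ (conj_tab k).2⟩) fun i => by
      rw [pB_val]
      simpa only [Bool.and_eq_true] using List.all_eq_true.1 conjB_sets i (List.mem_range.2 i.2))
    (by
      rw [← Nat.card_congr ConjAct.toConjAct.toEquiv, card_PSU_three_five hF]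
      exact le_card_model)
  exact ⟨ConjAct.toConjAct.trans e⟩

end CfsgLib.Spor.HSUnitary
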